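import Groth.Agent.VeroneseAway.Basic
import Mathlib.AlgebraicGeometry.ProjectiveSpectrum.Basic
import Mathlib.AlgebraicGeometry.Morphisms.Basic

/-! `Proj` of a Veronese ring. -/

set_option autoImplicit false
set_option backward.isDefEq.respectTransparency false

noncomputable section

universe u

open CategoryTheory CategoryTheory.Limits AlgebraicGeometry HomogeneousLocalization TopologicalSpace

namespace Groth.Agent.VeroneseAway

variable {R A : Type u} [CommRing R] [CommRing A] [Algebra R A] (𝒜 : ℕ → Submodule R A) [GradedAlgebra 𝒜]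
    {B : Type u} [CommRing B] [Algebra R B] (ℬ : ℕ → Submodule R B) [GradedAlgebra ℬ]
    (d : ℕ) (φ : B →ₐ[R] A) (hdeg : ∀ n : ℕ, Submodule.map φ.toLinearMap (ℬ n) = 𝒜 (n * d))

section theta

variable {n : ℕ} {g : B} (hg : g ∈ ℬ n)

include hdeg hg in
theorem mem_g : φ g ∈ 𝒜 (n * d) := (hdeg n).le (Submodule.mem_map_of_mem hg)

include hdeg hg in
theorem exists_theta (x : Away ℬ g) :
    ∃ y : Away 𝒜 (φ g), y.val = Localization.awayMap φ.toRingHom g x.val := by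
  obtain ⟨k, b, hb, rfl⟩ := Away.mk_surjective ℬ hg x
  refine ⟨Away.mk 𝒜 (mem_g 𝒜 ℬ d φ hdeg hg) k (φ b) ?_, ?_⟩
  · rw [smul_eq_mul, ← mul_assoc]; exact (hdeg _).le (Submodule.mem_map_of_mem hb)
  · rw [Away.val_mk, Away.val_mk, Localization.mk_eq_mk', Localization.mk_eq_mk', Localization.awayMap,
      IsLocalization.Away.map, IsLocalization.map_mk']
    congr 1
    exact Subtype.ext (map_pow φ g k).symm

/-- the comparison of degree-zero localisations -/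
def theta : Away ℬ g →+* Away 𝒜 (φ g) where
  toFun x := (exists_theta 𝒜 ℬ d φ hdeg hg x).choose
  map_one' := val_injective _ (by
    rw [(exists_theta 𝒜 ℬ d φ hdeg hg 1).choose_spec, val_one, val_one, map_one])
  map_mul' x y := val_injective _ (by
    rw [(exists_theta 𝒜 ℬ d φ hdeg hg (x * y)).choose_spec, val_mul, val_mul,
      (exists_theta 𝒜 ℬ d φ hdeg hg x).choose_spec, (exists_theta 𝒜 ℬ d φ hdeg hg y).choose_spec, map_mul])
  map_zero' := val_injective _ (by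
    rw [(exists_theta 𝒜 ℬ d φ hdeg hg 0).choose_spec, val_zero, val_zero, map_zero])
  map_add' x y := val_injective _ (by
    rw [(exists_theta 𝒜 ℬ d φ hdeg hg (x + y)).choose_spec, val_add, val_add,
      (exists_theta 𝒜 ℬ d φ hdeg hg x).choose_spec, (exists_theta 𝒜 ℬ d φ hdeg hg y).choose_spec, map_add])

theorem val_theta (x : Away ℬ g) :
    (theta 𝒜 ℬ d φ hdeg hg x).val = Localization.awayMap φ.toRingHom g x.val :=
  (exists_theta 𝒜 ℬ d φ hdeg hg x).choose_spec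

theorem val_theta_mk (k : ℕ) (b : B) (hb : b ∈ ℬ (k • n)) :
    (theta 𝒜 ℬ d φ hdeg hg (Away.mk ℬ hg k b hb)).val = Localization.mk (φ b) ⟨φ g ^ k, pow_mem (Submonoid.mem_powers (φ g)) k⟩ := by
  rw [val_theta, Away.val_mk, Localization.mk_eq_mk', Localization.mk_eq_mk', Localization.awayMap,
      IsLocalization.Away.map, IsLocalization.map_mk']
  congr 1
  exact Subtype.ext (map_pow φ g k)

theorem theta_bijective (hφ : Function.Injective φ) : Function.Bijective (theta 𝒜 ℬ d φ hdeg hg) := by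
  constructor
  · rw [injective_iff_map_eq_zero]
    intro x hx
    obtain ⟨k, b, hb, rfl⟩ := Away.mk_surjective ℬ hg x
    have h := congrArg HomogeneousLocalization.val hx
    rw [val_theta_mk, val_zero, ← Localization.mk_zero (1 : Submonoid.powers (φ g)),
      Localization.mk_eq_mk_iff, Localization.r_iff_exists] at h
    obtain ⟨⟨_, l, rfl⟩, hl⟩ := h
    refine val_injective _ ?_
    rw [Away.val_mk, val_zero, ← Localization.mk_zero (1 : Submonoid.powers g),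
      Localization.mk_eq_mk_iff, Localization.r_iff_exists]
    refine ⟨⟨_, l, rfl⟩, ?_⟩
    have h' : φ g ^ l * φ b = 0 := by simpa using hl
    rw [← map_pow, ← map_mul, ← map_zero φ] at h'
    simpa using hφ h'
  · intro y
    obtain ⟨k, a, ha, rfl⟩ := Away.mk_surjective 𝒜 (mem_g 𝒜 ℬ d φ hdeg hg) y
    rw [smul_eq_mul, ← mul_assoc] at ha
    obtain ⟨b, hb, rfl⟩ := (hdeg (k * n)).ge ha
    refine ⟨Away.mk ℬ hg k b (by rwa [smul_eq_mul]), val_injective _ ?_⟩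
    rw [val_theta_mk, Away.val_mk]
    rfl

theorem theta_unique (θ : Away ℬ g →+* Away 𝒜 (φ g))
    (h : (algebraMap (Away 𝒜 (φ g)) (Localization.Away (φ g))).comp θ =
      (Localization.awayMap φ.toRingHom g).comp (algebraMap (Away ℬ g) (Localization.Away g))) :
    θ = theta 𝒜 ℬ d φ hdeg hg :=
  RingHom.ext fun x => val_injective _ ((RingHom.congr_fun h x).trans (val_theta 𝒜 ℬ d φ hdeg hg x).symm)

theorem theta_awayMap {m : ℕ} {h : B} (hh : h ∈ ℬ m) {gh : B} (e : gh = g * h) (hgh : gh ∈ ℬ (n + m)) :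
    (awayMap 𝒜 (mem_g 𝒜 ℬ d φ hdeg hh) ((congrArg φ e).trans (map_mul φ g h))).comp (theta 𝒜 ℬ d φ hdeg hg) =
      (theta 𝒜 ℬ d φ hdeg hgh).comp (awayMap ℬ hh e) := by
  refine RingHom.ext fun x => val_injective _ ?_
  obtain ⟨k, b, hb, rfl⟩ := Away.mk_surjective ℬ hg x
  have hb' : φ b ∈ 𝒜 (k • (n * d)) := by
    rw [smul_eq_mul, ← mul_assoc]; exact (hdeg _).le (Submodule.mem_map_of_mem hb)
  have e1 : theta 𝒜 ℬ d φ hdeg hg (Away.mk ℬ hg k b hb) = Away.mk 𝒜 (mem_g 𝒜 ℬ d φ hdeg hg) k (φ b) hb' :=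
    val_injective _ (by rw [val_theta_mk, Away.val_mk])
  rw [RingHom.comp_apply, RingHom.comp_apply, e1]
  subst e
  rw [Away.mk, val_awayMap_mk, val_theta, Away.mk, val_awayMap_mk, Localization.mk_eq_mk', Localization.mk_eq_mk',
    Localization.awayMap, IsLocalization.Away.map, IsLocalization.map_mk']
  simp [map_mul, map_pow]

end theta

section proj

variable (hd : 0 < d)

/-- indices -/
abbrev Idx := Σ n : {n : ℕ // 0 < n}, ℬ n.1

include hdeg hd in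
theorem exists_idx (p : Proj 𝒜) : ∃ i : Idx ℬ, p ∈ Proj.basicOpen 𝒜 (φ (i.2 : B)) := by
  obtain ⟨⟨m, s, hs⟩, z, hz⟩ := (Proj.affineOpenCover 𝒜).openCover.exists_eq p
  have hs' : p ∈ Proj.basicOpen 𝒜 s := by
    rw [← hz, ← Proj.opensRange_awayι 𝒜 s hs m.2]; exact ⟨z, rfl⟩
  have h1 : s ^ d ∈ 𝒜 ((m : ℕ) * d) := by rw [mul_comm]; exact SetLike.pow_mem_graded d hs
  obtain ⟨b, hb, hbs⟩ := (hdeg _).ge h1
  refine ⟨⟨⟨m, m.2⟩, b, hb⟩, ?_⟩
  show p ∈ Proj.basicOpen 𝒜 (φ b)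
  rw [show φ b = s ^ d from hbs]
  exact fun h => hs' (p.isPrime.mem_of_pow_mem d h)

/-- the cover of `Proj S` by the `D₊(φ g)` -/
def cov : (Proj 𝒜).AffineOpenCover where
  I₀ := Idx ℬ
  X i := .of (Away 𝒜 (φ (i.2 : B)))
  f i := Proj.awayι 𝒜 (φ (i.2 : B)) (mem_g 𝒜 ℬ d φ hdeg i.2.2) (Nat.mul_pos i.1.2 hd)
  idx p := (exists_idx 𝒜 ℬ d φ hdeg hd p).choose
  covers p := by
    change p ∈ (Proj.awayι 𝒜 _ _ _).opensRange
    rw [Proj.opensRange_awayι]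
    exact (exists_idx 𝒜 ℬ d φ hdeg hd p).choose_spec

/-- the morphism on a piece -/
def pieceHom (i : Idx ℬ) : Spec (.of (Away 𝒜 (φ (i.2 : B)))) ⟶ Proj ℬ :=
  Spec.map (CommRingCat.ofHom (theta 𝒜 ℬ d φ hdeg i.2.2)) ≫ Proj.awayι ℬ (i.2 : B) i.2.2 i.1.2

theorem piece_congr {g : B} {n n' : ℕ} (e : n = n') (hn : 0 < n) (hn' : 0 < n') (hg : g ∈ ℬ n) (hg' : g ∈ ℬ n') :
    Spec.map (CommRingCat.ofHom (theta 𝒜 ℬ d φ hdeg hg)) ≫ Proj.awayι ℬ g hg hn =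
      Spec.map (CommRingCat.ofHom (theta 𝒜 ℬ d φ hdeg hg')) ≫ Proj.awayι ℬ g hg' hn' := by
  subst e
  rfl

theorem compat (i j : Idx ℬ) :
    pullback.fst ((cov 𝒜 ℬ d φ hdeg hd).openCover.f i) ((cov 𝒜 ℬ d φ hdeg hd).openCover.f j) ≫
        pieceHom 𝒜 ℬ d φ hdeg i =
      pullback.snd _ _ ≫ pieceHom 𝒜 ℬ d φ hdeg j := by
  obtain ⟨⟨n, hn⟩, g, hg⟩ := i
  obtain ⟨⟨m, hm⟩, h, hh⟩ := j
  have e := map_mul φ g h
  refine (cancel_epi (Proj.pullbackAwayιIso 𝒜 (mem_g 𝒜 ℬ d φ hdeg hg) (Nat.mul_pos hn hd)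
    (mem_g 𝒜 ℬ d φ hdeg hh) (Nat.mul_pos hm hd) e).inv).1 ?_
  refine ((Category.assoc _ _ _).symm.trans (congrArg (· ≫ _) (Proj.pullbackAwayιIso_inv_fst ..))).trans ?_
  refine Eq.trans ?_ ((Category.assoc _ _ _).symm.trans (congrArg (· ≫ _) (Proj.pullbackAwayιIso_inv_snd ..))).symm
  have hgh := SetLike.mul_mem_graded hg hh
  have hgh' : g * h ∈ ℬ (m + n) := by rw [add_comm]; exact hgh
  show Spec.map (CommRingCat.ofHom _) ≫ Spec.map (CommRingCat.ofHom (theta 𝒜 ℬ d φ hdeg hg)) ≫ _ =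
    Spec.map (CommRingCat.ofHom _) ≫ Spec.map (CommRingCat.ofHom (theta 𝒜 ℬ d φ hdeg hh)) ≫ _
  rw [← Spec.map_comp_assoc, ← Spec.map_comp_assoc, ← CommRingCat.ofHom_comp, ← CommRingCat.ofHom_comp,
    theta_awayMap 𝒜 ℬ d φ hdeg hg hh rfl hgh, theta_awayMap 𝒜 ℬ d φ hdeg hh hg (mul_comm g h) hgh',
    CommRingCat.ofHom_comp, CommRingCat.ofHom_comp, Spec.map_comp_assoc, Spec.map_comp_assoc,
    Proj.SpecMap_awayMap_awayι ℬ hg hn hh rfl, Proj.SpecMap_awayMap_awayι ℬ hh hm hg (mul_comm g h)]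
  exact piece_congr 𝒜 ℬ d φ hdeg (Nat.add_comm n m) _ _ _ _

/-- `Proj S ⟶ Proj S^{(d)}` -/
def veroneseHom : Proj 𝒜 ⟶ Proj ℬ :=
  Scheme.Cover.glueMorphisms (cov 𝒜 ℬ d φ hdeg hd).openCover (pieceHom 𝒜 ℬ d φ hdeg) (compat 𝒜 ℬ d φ hdeg hd)

theorem awayι_veroneseHom {n : ℕ} (hn : 0 < n) {g : B} (hg : g ∈ ℬ n) :
    Proj.awayι 𝒜 (φ g) (mem_g 𝒜 ℬ d φ hdeg hg) (Nat.mul_pos hn hd) ≫ veroneseHom 𝒜 ℬ d φ hdeg hd =
      Spec.map (CommRingCat.ofHom (theta 𝒜 ℬ d φ hdeg hg)) ≫ Proj.awayι ℬ g hg hn :=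
  Scheme.Cover.ι_glueMorphisms (cov 𝒜 ℬ d φ hdeg hd).openCover _ _ (⟨⟨n, hn⟩, g, hg⟩ : Idx ℬ)

theorem preimage_basicOpen {m : ℕ} (hm : 0 < m) {h : B} (hh : h ∈ ℬ m) :
    veroneseHom 𝒜 ℬ d φ hdeg hd ⁻¹ᵁ Proj.basicOpen ℬ h = Proj.basicOpen 𝒜 (φ h) := by
  ext p
  obtain ⟨⟨⟨n, hn⟩, g, hg⟩, hp⟩ := exists_idx 𝒜 ℬ d φ hdeg hd p
  rw [← Proj.opensRange_awayι 𝒜 (φ g) (mem_g 𝒜 ℬ d φ hdeg hg) (Nat.mul_pos hn hd)] at hp
  obtain ⟨q, rfl⟩ := hp
  have key : (Proj.awayι 𝒜 (φ g) (mem_g 𝒜 ℬ d φ hdeg hg) (Nat.mul_pos hn hd) ≫ veroneseHom 𝒜 ℬ d φ hdeg hd) ⁻¹ᵁ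
      Proj.basicOpen ℬ h = Proj.awayι 𝒜 (φ g) (mem_g 𝒜 ℬ d φ hdeg hg) (Nat.mul_pos hn hd) ⁻¹ᵁ Proj.basicOpen 𝒜 (φ h) := by
    rw [awayι_veroneseHom 𝒜 ℬ d φ hdeg hd hn hg, Scheme.Hom.comp_preimage, Proj.awayι_preimage_basicOpen ℬ hg hn hh hm,
      Proj.awayι_preimage_basicOpen 𝒜 _ (Nat.mul_pos hn hd) (mem_g 𝒜 ℬ d φ hdeg hh) (Nat.mul_pos hm hd)]
    change PrimeSpectrum.basicOpen (theta 𝒜 ℬ d φ hdeg hg (Away.isLocalizationElem hg hh)) = _
    rw [← PrimeSpectrum.basicOpen_pow (theta 𝒜 ℬ d φ hdeg hg (Away.isLocalizationElem hg hh)) d hd]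
    congr 1
    refine val_injective _ ?_
    simp only [Away.isLocalizationElem, val_pow, val_theta_mk, Away.val_mk, Localization.mk_pow]
    congr 1
    · rw [map_pow, ← pow_mul]
    · exact Subtype.ext (by simp [← pow_mul])
  exact SetLike.ext_iff.1 key q

theorem base_eq (hφ : Function.Injective φ) (p : Proj 𝒜) :
    ((veroneseHom 𝒜 ℬ d φ hdeg hd).base p).asHomogeneousIdeal.toIdeal =
      Ideal.comap φ p.asHomogeneousIdeal.toIdeal := by
  obtain ⟨⟨⟨n, hn⟩, g, hg⟩, hp⟩ := exists_idx 𝒜 ℬ d φ hdeg hd p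
  set P := (veroneseHom 𝒜 ℬ d φ hdeg hd).base p with hP
  have key : ∀ {m : ℕ}, 0 < m → ∀ {h : B}, h ∈ ℬ m →
      (h ∈ P.asHomogeneousIdeal ↔ φ h ∈ p.asHomogeneousIdeal) := fun {m} hm {h} hh => by
    have := SetLike.ext_iff.1 (preimage_basicOpen 𝒜 ℬ d φ hdeg hd hm hh) p
    exact not_iff_not.1 this
  have hgP : g ∉ P.asHomogeneousIdeal := fun h => hp ((key hn hg).1 h)
  have hom : ∀ {m : ℕ} {h : B}, h ∈ ℬ m → (h ∈ P.asHomogeneousIdeal.toIdeal ↔ φ h ∈ p.asHomogeneousIdeal.toIdeal) := by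
    intro m h hh
    have h1 := key (Nat.add_pos_right m hn) (SetLike.mul_mem_graded hh hg)
    rw [map_mul] at h1
    exact ⟨fun hi => (p.isPrime.mem_or_mem (h1.1 (Ideal.mul_mem_right _ _ hi))).resolve_right hp,
      fun hi => (P.isPrime.mem_or_mem (h1.2 (Ideal.mul_mem_right _ _ hi))).resolve_right hgP⟩
  classical
  refine le_antisymm (fun b hb => ?_) (fun b hb => ?_)
  · rw [Ideal.mem_comap, ← DirectSum.sum_support_decompose ℬ b, map_sum]
    exact sum_mem fun i _ => (hom (SetLike.coe_mem _)).1 (P.asHomogeneousIdeal.isHomogeneous i hb)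
  · rw [← DirectSum.sum_support_decompose ℬ b]
    refine sum_mem fun i _ => (hom (SetLike.coe_mem _)).2 ?_
    have h2 := p.asHomogeneousIdeal.isHomogeneous (i * d) (Ideal.mem_comap.1 hb)
    convert h2 using 1
    conv_rhs => rw [← DirectSum.sum_support_decompose ℬ b, map_sum, DirectSum.decompose_sum, DFinsupp.finsetSum_apply,
      AddSubmonoidClass.coe_finsetSum]
    rw [Finset.sum_eq_single i]
    · exact (DirectSum.decompose_of_mem_same 𝒜 ((hdeg i).le (Submodule.mem_map_of_mem (SetLike.coe_mem _)))).symm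
    · intro j _ hj
      exact DirectSum.decompose_of_mem_ne 𝒜 ((hdeg j).le (Submodule.mem_map_of_mem (SetLike.coe_mem _)))
        (fun he => hj (Nat.eq_of_mul_eq_mul_right hd he))
    · intro hi
      rw [DFinsupp.notMem_support_iff] at hi
      simp [hi]

theorem isIso_veroneseHom (hφ : Function.Injective φ) : IsIso (veroneseHom 𝒜 ℬ d φ hdeg hd) := by
  have hO : ⨆ i : Idx ℬ, Proj.basicOpen ℬ (i.2 : B) = ⊤ := by
    refine top_le_iff.1 fun x _ => ?_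
    obtain ⟨⟨m, s, hs⟩, z, hz⟩ := (Proj.affineOpenCover ℬ).openCover.exists_eq x
    refine Opens.mem_iSup.2 ⟨(⟨⟨m, m.2⟩, s, hs⟩ : Idx ℬ), ?_⟩
    rw [← hz, ← Proj.opensRange_awayι ℬ s hs m.2]; exact ⟨z, rfl⟩
  refine IsZariskiLocalAtTarget.of_iSup_eq_top (P := MorphismProperty.isomorphisms Scheme) _ hO fun i => ?_
  obtain ⟨⟨n, hn⟩, g, hg⟩ := i
  let c := veroneseHom 𝒜 ℬ d φ hdeg hd
  let aE := Proj.awayι 𝒜 (φ g) (mem_g 𝒜 ℬ d φ hdeg hg) (Nat.mul_pos hn hd)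
  let γ := Spec.map (CommRingCat.ofHom (theta 𝒜 ℬ d φ hdeg hg)) ≫ Proj.awayι ℬ g hg hn
  haveI : IsIso (CommRingCat.ofHom (theta 𝒜 ℬ d φ hdeg hg)) :=
    (RingEquiv.ofBijective _ (theta_bijective 𝒜 ℬ d φ hdeg hg hφ)).toCommRingCatIso.isIso_hom
  have hrange : γ.opensRange = Proj.basicOpen ℬ g :=
    (Scheme.Hom.opensRange_comp_of_isIso _ _).trans (Proj.opensRange_awayι ..)
  have hpre : aE.opensRange = c ⁻¹ᵁ Proj.basicOpen ℬ g :=
    (Proj.opensRange_awayι ..).trans (preimage_basicOpen 𝒜 ℬ d φ hdeg hd hn hg).symm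
  have hγ : aE ≫ c = γ := awayι_veroneseHom 𝒜 ℬ d φ hdeg hd hn hg
  let e := aE.isoOpensRange ≪≫ Scheme.isoOfEq _ hpre
  let α := γ.isoOpensRange ≪≫ Scheme.isoOfEq _ hrange
  refine (MorphismProperty.cancel_left_of_respectsIso (MorphismProperty.isomorphisms Scheme) e.hom _).1 ?_
  have h1 : e.hom ≫ c ∣_ Proj.basicOpen ℬ g = α.hom := by
    rw [← cancel_mono (Proj.basicOpen ℬ g).ι, Category.assoc, morphismRestrict_ι]
    simp only [e, α, Iso.trans_hom, Category.assoc]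
    refine ((congrArg (aE.isoOpensRange.hom ≫ ·) (Scheme.isoOfEq_hom_ι_assoc _ _ _)).trans
      (Scheme.Hom.isoOpensRange_hom_ι_assoc _ _)).trans ?_
    rw [Scheme.isoOfEq_hom_ι, Scheme.Hom.isoOpensRange_hom_ι, hγ]
  rw [h1]
  exact (inferInstance : IsIso α.hom)

end proj

end Groth.Agent.VeroneseAway
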