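import Mathlib.RingTheory.GradedAlgebra.HomogeneousLocalization
import Mathlib.RingTheory.GradedAlgebra.Basic
import Mathlib.RingTheory.Ideal.Quotient.Operations

/-! Degree zero localisation versus the quotient by `f' - 1` of the Veronese ring. -/

set_option autoImplicit false

noncomputable section

universe u

open HomogeneousLocalization DirectSum

namespace Groth.Agent.VeroneseAway

variable {R A : Type u} [CommRing R] [CommRing A] [Algebra R A] (𝒜 : ℕ → Submodule R A) [GradedAlgebra 𝒜]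
    {B : Type u} [CommRing B] [Algebra R B] (ℬ : ℕ → Submodule R B) [GradedAlgebra ℬ]
    (d : ℕ) (φ : B →ₐ[R] A) (hdeg : ∀ n : ℕ, Submodule.map φ.toLinearMap (ℬ n) = 𝒜 (n * d))
    (f' : B) (hf' : f' ∈ ℬ 1)

include hdeg hf' in
theorem mem_f : φ f' ∈ 𝒜 d := by
  have := (hdeg 1).le (Submodule.mem_map_of_mem hf')
  rwa [one_mul] at this

include hdeg in
theorem mem_img {n : ℕ} {x : B} (hx : x ∈ ℬ n) : φ x ∈ 𝒜 (n • d) := by
  rw [smul_eq_mul]; exact (hdeg n).le (Submodule.mem_map_of_mem hx)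

/-- the map on one graded piece -/
def piece (n : ℕ) : ℬ n →+ Away 𝒜 (φ f') where
  toFun x := Away.mk 𝒜 (mem_f 𝒜 ℬ d φ hdeg f' hf') n (φ x.1) (mem_img 𝒜 ℬ d φ hdeg x.2)
  map_zero' := HomogeneousLocalization.val_injective _ (by
    rw [Away.val_mk, HomogeneousLocalization.val_zero]
    simp [Localization.mk_zero])
  map_add' x y := HomogeneousLocalization.val_injective _ (by
    rw [Away.val_mk, HomogeneousLocalization.val_add, Away.val_mk, Away.val_mk, Localization.add_mk_self]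
    simp)

theorem val_piece (n : ℕ) (x : ℬ n) : (piece 𝒜 ℬ d φ hdeg f' hf' n x).val =
    Localization.mk (φ x.1) ⟨φ f' ^ n, pow_mem (Submonoid.mem_powers _) n⟩ :=
  Away.val_mk 𝒜 n (mem_f 𝒜 ℬ d φ hdeg f' hf') _ (mem_img 𝒜 ℬ d φ hdeg x.2)

/-- the map `S' → S_(f)` -/
def toAway : B →+* Away 𝒜 (φ f') :=
  (DirectSum.toSemiring (piece 𝒜 ℬ d φ hdeg f' hf')
    (HomogeneousLocalization.val_injective _ (by
      rw [val_piece, HomogeneousLocalization.val_one]
      show Localization.mk (φ (1 : B)) _ = 1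
      simp [← Localization.mk_one]))
    (fun {i j} a b => HomogeneousLocalization.val_injective _ (by
      rw [val_piece, HomogeneousLocalization.val_mul, val_piece, val_piece, Localization.mk_mul]
      congr 1
      · exact map_mul φ _ _
      · exact Subtype.ext (pow_add (φ f') i j)))).comp (decomposeRingEquiv ℬ).toRingHom

theorem toAway_of_mem {n : ℕ} {x : B} (hx : x ∈ ℬ n) :
    toAway 𝒜 ℬ d φ hdeg f' hf' x = piece 𝒜 ℬ d φ hdeg f' hf' n ⟨x, hx⟩ := by
  have h : decomposeRingEquiv ℬ x = DirectSum.of (fun k => ℬ k) n ⟨x, hx⟩ := DirectSum.decompose_of_mem ℬ hx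
  rw [toAway, RingHom.comp_apply, RingEquiv.toRingHom_eq_coe, RingEquiv.coe_toRingHom, h, DirectSum.toSemiring_of]

theorem toAway_surjective : Function.Surjective (toAway 𝒜 ℬ d φ hdeg f' hf') := by
  intro z
  obtain ⟨n, a, ha, rfl⟩ := Away.mk_surjective 𝒜 (mem_f 𝒜 ℬ d φ hdeg f' hf') z
  obtain ⟨x, hx, rfl⟩ := (hdeg n).ge (by rwa [smul_eq_mul] at ha)
  exact ⟨x, toAway_of_mem 𝒜 ℬ d φ hdeg f' hf' hx⟩

theorem toAway_f : toAway 𝒜 ℬ d φ hdeg f' hf' f' = 1 := by
  rw [toAway_of_mem 𝒜 ℬ d φ hdeg f' hf' hf']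
  refine HomogeneousLocalization.val_injective _ ?_
  rw [val_piece, HomogeneousLocalization.val_one]
  simp only [pow_one]
  exact Localization.mk_self (⟨φ f', Submonoid.mem_powers _⟩ : Submonoid.powers (φ f'))

theorem ker_toAway (hφ : Function.Injective φ) :
    RingHom.ker (toAway 𝒜 ℬ d φ hdeg f' hf') = Ideal.span {f' - 1} := by
  classical
  have hle : Ideal.span {f' - 1} ≤ RingHom.ker (toAway 𝒜 ℬ d φ hdeg f' hf') := by
    rw [Ideal.span_le, Set.singleton_subset_iff]
    show toAway 𝒜 ℬ d φ hdeg f' hf' (f' - 1) = 0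
    rw [map_sub, map_one, toAway_f, sub_self]
  refine le_antisymm (fun b hb => ?_) hle
  set I := Ideal.span {f' - 1} with hI
  have h1 : Ideal.Quotient.mk I f' = 1 := by
    rw [← map_one (Ideal.Quotient.mk I), Ideal.Quotient.mk_eq_mk_iff_sub_mem]
    exact Ideal.subset_span rfl
  let s := (DirectSum.decompose ℬ b).support
  let N := s.sup id
  let c := ∑ i ∈ s, f' ^ (N - i) * (DirectSum.decompose ℬ b i : B)
  have hc : c ∈ ℬ N := sum_mem fun i hi => by
    have h2 := SetLike.mul_mem_graded (SetLike.pow_mem_graded (N - i) hf') (SetLike.coe_mem (DirectSum.decompose ℬ b i))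
    have h3 : i ≤ N := Finset.le_sup (f := id) hi
    rwa [smul_eq_mul, mul_one, Nat.sub_add_cancel h3] at h2
  have hbc : Ideal.Quotient.mk I b = Ideal.Quotient.mk I c := by
    conv_lhs => rw [← DirectSum.sum_support_decompose ℬ b]
    simp only [c, s, map_sum, map_mul, map_pow, h1, one_pow, one_mul]
  have hc0 : toAway 𝒜 ℬ d φ hdeg f' hf' c = 0 := by
    have h2 : b - c ∈ I := (Ideal.Quotient.mk_eq_mk_iff_sub_mem _ _).1 hbc
    have h3 := hle h2
    rw [RingHom.mem_ker, map_sub, show toAway 𝒜 ℬ d φ hdeg f' hf' b = 0 from hb, zero_sub, neg_eq_zero] at h3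
    exact h3
  rw [toAway_of_mem 𝒜 ℬ d φ hdeg f' hf' hc] at hc0
  have h4 := congrArg HomogeneousLocalization.val hc0
  rw [val_piece, HomogeneousLocalization.val_zero, ← Localization.mk_zero (1 : Submonoid.powers (φ f')),
    Localization.mk_eq_mk_iff, Localization.r_iff_exists] at h4
  obtain ⟨⟨_, k, rfl⟩, hk⟩ := h4
  have hk' : φ (f' ^ k * c) = φ 0 := by
    rw [map_mul, map_pow, map_zero]; simpa using hk
  have h5 := congrArg (Ideal.Quotient.mk I) (hφ hk')
  rw [map_mul, map_pow, h1, one_pow, one_mul, map_zero, ← hbc, Ideal.Quotient.eq_zero_iff_mem] at h5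
  exact h5

include hdeg in
theorem exists_equiv (hφ : Function.Injective φ) (hf : f' ∈ ℬ 1) :
    ∃ e : Away 𝒜 (φ f') ≃+* B ⧸ Ideal.span {f' - 1},
      ∀ (n : ℕ) (x : B), x ∈ ℬ n →
        (e.symm (Ideal.Quotient.mk (Ideal.span {f' - 1}) x)).val =
          Localization.mk (φ x) ⟨φ f' ^ n, pow_mem (Submonoid.mem_powers (φ f')) n⟩ := by
  let e₀ := (Ideal.quotEquivOfEq (ker_toAway 𝒜 ℬ d φ hdeg f' hf hφ).symm).trans
    (RingHom.quotientKerEquivOfSurjective (toAway_surjective 𝒜 ℬ d φ hdeg f' hf))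
  refine ⟨e₀.symm, fun n x hx => ?_⟩
  rw [RingEquiv.symm_symm]
  show (toAway 𝒜 ℬ d φ hdeg f' hf x).val = _
  rw [toAway_of_mem 𝒜 ℬ d φ hdeg f' hf hx, val_piece]

end Groth.Agent.VeroneseAway
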